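import Groth.Agent.H17.RegPres.Basic
import Groth.Agent.H29Slice.RegImm
import Mathlib

/-!
# Regular immersions into affine space: presentations by regular sequences
-/

set_option autoImplicit false
set_option linter.style.haveILetI false
universe u

open CategoryTheory AlgebraicGeometry TopologicalSpace RingTheory.Sequence

namespace Groth.Agent.H17.RegPres

theorem ker_appTop_spec {R : Type u} [CommRing R] (I : Ideal R) :
    RingHom.ker (Spec.map (CommRingCat.ofHom (Ideal.Quotient.mk I))).appTop.hom =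
      I.map (Scheme.ΓSpecIso (CommRingCat.of R)).inv.hom := by
  have h := Scheme.ΓSpecIso_inv_naturality (CommRingCat.ofHom (Ideal.Quotient.mk I))
  refine le_antisymm (fun x hx => ?_) (Ideal.map_le_iff_le_comap.2 fun r hr => ?_)
  · obtain ⟨r, rfl⟩ := (Scheme.ΓSpecIso (CommRingCat.of R)).symm.commRingCatIsoToRingEquiv.surjective x
    have h' := congr($h r)
    simp only [CommRingCat.comp_apply] at h'
    refine Ideal.mem_map_of_mem _ (Ideal.Quotient.eq_zero_iff_mem.1 ?_)
    apply (ConcreteCategory.bijective_of_isIso (Scheme.ΓSpecIso (CommRingCat.of (R ⧸ I))).inv).1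
    rw [map_zero]
    exact h'.trans hx
  · have h' := congr($h r)
    simp only [CommRingCat.comp_apply] at h'
    show (Spec.map (CommRingCat.ofHom (Ideal.Quotient.mk I))).appTop _ = 0
    refine h'.symm.trans ?_
    show (Scheme.ΓSpecIso (CommRingCat.of (R ⧸ I))).inv (Ideal.Quotient.mk I r) = 0
    rw [Ideal.Quotient.eq_zero_iff_mem.2 hr, map_zero]

theorem nontrivial_away {S : Type u} [CommRing S] (g : S) (q : PrimeSpectrum S) (hg : g ∉ q.asIdeal) :
    Nontrivial (Localization.Away g) := by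
  by_contra h
  rw [not_nontrivial_iff_subsingleton, IsLocalization.subsingleton_iff (M := Submonoid.powers g)] at h
  obtain ⟨k, hk⟩ := h
  exact hg (q.2.mem_of_pow_mem k ((show g ^ k = 0 from hk) ▸ q.asIdeal.zero_mem))

theorem chart_to_presentation (A : Type u) [CommRing A] (n : ℕ) (I : Ideal (MvPolynomial (Fin n) A))
    (q : PrimeSpectrum (MvPolynomial (Fin n) A ⧸ I))
    (U : (Spec (CommRingCat.of (MvPolynomial (Fin n) A))).affineOpens)
    (hzU : (Spec.map (CommRingCat.ofHom (Ideal.Quotient.mk I))) q ∈ U.1)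
    (hcl : IsClosedImmersion (Spec.map (CommRingCat.ofHom (Ideal.Quotient.mk I)) ∣_ U.1))
    (rs : List Γ(Spec (CommRingCat.of (MvPolynomial (Fin n) A)), U.1)) (hrs : IsRegular Γ(Spec (CommRingCat.of (MvPolynomial (Fin n) A)), U.1) rs)
    (hker : RingHom.ker ((Spec.map (CommRingCat.ofHom (Ideal.Quotient.mk I))).app U.1).hom = Ideal.ofList rs) :
    ∃ g : MvPolynomial (Fin n) A ⧸ I, g ∉ q.asIdeal ∧
      ∃ (d : ℕ) (P : Fin d → MvPolynomial (Fin (n + 1)) A),
        IsRegular (MvPolynomial (Fin (n + 1)) A) (List.ofFn P) ∧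
        Nonempty (Localization.Away g ≃ₐ[A] (MvPolynomial (Fin (n + 1)) A ⧸ Ideal.ofList (List.ofFn P))) := by
  let R := CommRingCat.of (MvPolynomial (Fin n) A)
  let i := Spec.map (CommRingCat.ofHom (Ideal.Quotient.mk I))
  obtain ⟨f, hfU, hzf⟩ := (isAffineOpen_top (Spec R)).exists_basicOpen_le ⟨i q, hzU⟩ trivial
  let c : R := (Scheme.ΓSpecIso R).hom f
  have hcf : (Scheme.ΓSpecIso R).inv c = f :=
    congr($((Scheme.ΓSpecIso R).hom_inv_id) f)
  have hgq : Ideal.Quotient.mk I c ∉ q.asIdeal := by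
    intro hmem
    have h1 : i q ∈ (Spec R).basicOpen f := hzf
    rw [← hcf, basicOpen_eq_of_affine] at h1
    exact h1 hmem
  refine ⟨_, hgq, ?_⟩
  have H : IsPullback (𝟙 _) i i (𝟙 (Spec R)) := IsPullback.of_horiz_isIso ⟨(Category.id_comp i).trans (Category.comp_id i).symm⟩
  have hD : IsAffineOpen ((Spec R).basicOpen f) := (isAffineOpen_top _).basicOpen f
  obtain ⟨-, hkU⟩ := H29Slice.restrict_baseChange H U.2 hcl hD (e := hfU)
  have htop : IsClosedImmersion (i ∣_ (⊤ : (Spec R).Opens)) := by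
    haveI : IsClosedImmersion i := IsClosedImmersion.spec_of_surjective _ Ideal.Quotient.mk_surjective
    exact IsZariskiLocalAtTarget.restrict ‹_› ⊤
  obtain ⟨-, hkT⟩ := H29Slice.restrict_baseChange H (isAffineOpen_top _) htop hD (e := le_top)
  have heU : Scheme.Hom.appLE (𝟙 (Spec R)) U.1 _ hfU = (Spec R).presheaf.map (homOfLE hfU).op := by
    simp only [Scheme.Hom.appLE, Scheme.Hom.id_app]
    rfl
  have heT : Scheme.Hom.appLE (𝟙 (Spec R)) ⊤ _ le_top =
      (Spec R).presheaf.map (homOfLE (le_top : (Spec R).basicOpen f ≤ ⊤)).op := by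
    simp only [Scheme.Hom.appLE, Scheme.Hom.id_app]
    rfl
  rw [heU] at hkU
  rw [heT, show RingHom.ker (i.app ⊤).hom = _ from ker_appTop_spec I, Ideal.map_map] at hkT
  letI : Algebra (MvPolynomial (Fin n) A) Γ(Spec R, (Spec R).basicOpen f) :=
    (((Spec R).presheaf.map (homOfLE (le_top : (Spec R).basicOpen f ≤ ⊤)).op).hom.comp
      (Scheme.ΓSpecIso R).inv.hom).toAlgebra
  haveI : IsLocalization.Away c Γ(Spec R, (Spec R).basicOpen f) := by
    letI : Algebra Γ(Spec R, ⊤) Γ(Spec R, (Spec R).basicOpen f) :=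
      ((Spec R).presheaf.map (homOfLE (le_top : (Spec R).basicOpen f ≤ ⊤)).op).hom.toAlgebra
    haveI : IsLocalization.Away f Γ(Spec R, (Spec R).basicOpen f) := (isAffineOpen_top _).isLocalization_basicOpen f
    have := IsLocalization.isLocalization_of_base_ringEquiv (Submonoid.powers f)
      Γ(Spec R, (Spec R).basicOpen f) (Scheme.ΓSpecIso R).commRingCatIsoToRingEquiv
    rw [Submonoid.map_powers] at this
    exact this
  let rsD := rs.map ((Spec R).presheaf.map (homOfLE hfU).op).hom
  have hw : IsWeaklyRegular Γ(Spec R, (Spec R).basicOpen f) rsD := by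
    letI : Algebra Γ(Spec R, U.1) Γ(Spec R, (Spec R).basicOpen f) :=
      ((Spec R).presheaf.map (homOfLE hfU).op).hom.toAlgebra
    haveI : Module.Flat Γ(Spec R, U.1) Γ(Spec R, (Spec R).basicOpen f) := by
      have hfl := Scheme.Hom.flat_appLE (𝟙 (Spec R)) U.2 hD hfU
      rw [heU] at hfl
      exact hfl
    exact hrs.1.of_flat
  refine exists_presentation A n I c Γ(Spec R, (Spec R).basicOpen f) rsD hw ?_ ?_
  · show I.map (((Spec R).presheaf.map (homOfLE (le_top : (Spec R).basicOpen f ≤ ⊤)).op).hom.comp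
      (Scheme.ΓSpecIso R).inv.hom) = _
    rw [← hkT, hkU, hker, Ideal.map_ofList]
  · exact nontrivial_away _ q hgq

theorem exists_presentation_chart (A : Type u) [CommRing A] (n : ℕ) (I : Ideal (MvPolynomial (Fin n) A))
    (h : RegImm.IsRegularImmersion RegImm.Kind.regular (Spec.map (CommRingCat.ofHom (Ideal.Quotient.mk I))))
    (q : PrimeSpectrum (MvPolynomial (Fin n) A ⧸ I)) :
    ∃ g : MvPolynomial (Fin n) A ⧸ I, g ∉ q.asIdeal ∧
      ∃ (d : ℕ) (P : Fin d → MvPolynomial (Fin (n + 1)) A),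
        IsRegular (MvPolynomial (Fin (n + 1)) A) (List.ofFn P) ∧
        Nonempty (Localization.Away g ≃ₐ[A] (MvPolynomial (Fin (n + 1)) A ⧸ Ideal.ofList (List.ofFn P))) := by
  obtain ⟨U, hzU, hcl, rs, hrs, hker⟩ := h.2 q
  exact chart_to_presentation A n I q U hzU hcl rs hrs hker

end Groth.Agent.H17.RegPres
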