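import Groth.Agent.H29Slice.RegImm
import Groth.Agent.H29Slice.TransBC
import Groth.Prelude.Def_RegImm
import Mathlib

/-!
# Local presentations by regular sequences
-/

set_option autoImplicit false
set_option linter.style.haveILetI false
universe u

open Polynomial

namespace Groth.Agent.H17.RegPres

open RingTheory.Sequence

theorem mem_ofList_map_symm {A S T : Type u} [CommRing A] [CommRing S] [CommRing T] [Algebra A S] [Algebra A T]
    (E : S ≃ₐ[A] T) (m : List T) (x : S) : x ∈ Ideal.ofList (m.map E.symm) ↔ E x ∈ Ideal.ofList m := by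
  have h1 : Ideal.ofList (m.map E.symm) = (Ideal.ofList m).map (E.symm : T →+* S) := by
    rw [Ideal.map_ofList]; rfl
  rw [h1]
  constructor
  · intro hx
    obtain ⟨y, hy, hyx⟩ := (Ideal.mem_map_iff_of_surjective _ E.symm.surjective).1 hx
    rw [← hyx]
    show E (E.symm y) ∈ _
    rw [AlgEquiv.apply_symm_apply]
    exact hy
  · intro hx
    have := Ideal.mem_map_of_mem (E.symm : T →+* S) hx
    rwa [show (E.symm : T →+* S) (E x) = x from E.symm_apply_apply x] at this

theorem exists_presentation (A : Type u) [CommRing A] (n : ℕ) (I : Ideal (MvPolynomial (Fin n) A))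
    (c : MvPolynomial (Fin n) A) (L : Type u) [CommRing L] [Algebra (MvPolynomial (Fin n) A) L]
    [IsLocalization.Away c L] (rs : List L) (hrs : IsWeaklyRegular L rs)
    (hI : I.map (algebraMap (MvPolynomial (Fin n) A) L) = Ideal.ofList rs)
    (hne : Nontrivial (Localization.Away (Ideal.Quotient.mk I c))) :
    ∃ (d : ℕ) (P : Fin d → MvPolynomial (Fin (n + 1)) A),
      IsRegular (MvPolynomial (Fin (n + 1)) A) (List.ofFn P) ∧
      Nonempty (Localization.Away (Ideal.Quotient.mk I c) ≃ₐ[A]
        (MvPolynomial (Fin (n + 1)) A ⧸ Ideal.ofList (List.ofFn P))) := by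
  -- numerators
  choose p hp using fun r : L => IsLocalization.Away.surj c r
  choose N hN using hp
  let ws : List (MvPolynomial (Fin n) A) := rs.map N
  let φ := algebraMap (MvPolynomial (Fin n) A) L
  have hws : ws.map φ = rs.map fun r => r * φ c ^ p r := by
    simp only [ws, List.map_map]
    exact List.map_congr_left fun r _ => (hN r).symm
  have hu : ∀ k : ℕ, IsUnit (φ c ^ k) := fun k => (IsLocalization.Away.algebraMap_isUnit c).pow k
  have hspan : ∀ i, Ideal.ofList ((ws.map φ).take i) = Ideal.ofList (rs.take i) := by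
    intro i
    rw [hws, ← List.map_take]
    refine le_antisymm (Ideal.span_le.2 fun x hx => ?_) (Ideal.span_le.2 fun x hx => ?_)
    · obtain ⟨r, hr, rfl⟩ := List.mem_map.1 hx
      exact Ideal.mul_mem_right _ _ (Ideal.subset_span hr)
    · obtain ⟨u, hu'⟩ := hu (p x)
      rw [SetLike.mem_coe, show x = (x * φ c ^ p x) * (↑u⁻¹ : L) by rw [← hu', mul_assoc, u.mul_inv, mul_one]]
      exact Ideal.mul_mem_right _ _ (Ideal.subset_span (List.mem_map.2 ⟨x, hx, rfl⟩))
  have hwsreg : IsWeaklyRegular L (ws.map φ) := by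
    rw [H29Slice.isWeaklyRegular_iff_elementwise] at hrs ⊢
    intro i hi x hx
    rw [hspan] at hx ⊢
    have hi' : i < rs.length := by simpa [ws] using hi
    have e : (ws.map φ)[i] = rs[i] * φ c ^ p rs[i] := by
      simp only [ws, List.getElem_map]; exact (hN _).symm
    rw [e, mul_right_comm] at hx
    exact hrs i hi' x ((Ideal.mul_unit_mem_iff_mem _ (hu _)).1 hx)
  let R := MvPolynomial (Fin n) A
  let f : R[X] := C c * X - 1
  let ψ : R[X] →ₐ[R] L := Polynomial.aeval (IsLocalization.Away.invSelf c)
  let e₀ : AdjoinRoot f ≃ₐ[R] L :=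
    (Localization.awayEquivAdjoin c).symm.trans (IsLocalization.algEquiv (Submonoid.powers c) _ _)
  have hψ : ψ = e₀.toAlgHom.comp (AdjoinRoot.mkₐ f) := by
    refine Polynomial.algHom_ext ?_
    have h1 : ψ X * φ c = 1 := by
      simp [ψ, φ, mul_comm (IsLocalization.Away.invSelf c)]
    have h2 : (e₀.toAlgHom.comp (AdjoinRoot.mkₐ f)) X * φ c = 1 := by
      rw [show φ c = (e₀.toAlgHom.comp (AdjoinRoot.mkₐ f)) (C c) from (AlgHom.commutes _ c).symm, ← map_mul]
      have : AdjoinRoot.mk f (X * C c) = 1 := by
        rw [← sub_eq_zero, ← map_one (AdjoinRoot.mk f), ← map_sub, AdjoinRoot.mk_eq_zero, mul_comm]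
      show e₀ (AdjoinRoot.mk f (X * C c)) = 1
      rw [this, map_one]
    exact (IsLocalization.Away.algebraMap_isUnit c).mul_right_cancel (h1.trans h2.symm)
  have hsurj : Function.Surjective ψ := by
    rw [hψ]; exact e₀.surjective.comp AdjoinRoot.mk_surjective
  have hker : ∀ x, ψ x = 0 ↔ x ∈ Ideal.span {f} := by
    intro x
    rw [hψ, Ideal.mem_span_singleton, ← AdjoinRoot.mk_eq_zero]
    exact e₀.toAddEquiv.map_eq_zero_iff
  have hψC : ∀ w, ψ (C w) = φ w := fun w => Polynomial.aeval_C _ _
  have hcomap : ∀ l : List R, (Ideal.ofList (l.map φ)).comap ψ.toRingHom =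
      Ideal.ofList (f :: l.map C) := by
    intro l
    rw [show l.map φ = (l.map C).map ψ by rw [List.map_map]; exact List.map_congr_left fun w _ => (hψC w).symm,
      ← show (Ideal.ofList (l.map C)).map ψ.toRingHom = Ideal.ofList ((l.map C).map ψ) from Ideal.map_ofList _ _,
      Ideal.comap_map_of_surjective ψ.toRingHom hsurj, Ideal.ofList_cons, sup_comm]
    congr 1
    exact Ideal.ext fun x => hker x
  have hnzd : ∀ x : R[X], f * x = 0 → x = 0 := by
    intro x hx
    by_contra hx0
    have h := congrArg (fun q => Polynomial.coeff q x.natTrailingDegree) hx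
    have h3 : (C c * X * x).coeff x.natTrailingDegree = 0 := by
      rw [mul_assoc, Polynomial.coeff_C_mul]
      rcases Nat.eq_zero_or_eq_succ_pred x.natTrailingDegree with h0 | h0
      · rw [h0, Polynomial.coeff_X_mul_zero, mul_zero]
      · rw [h0, Polynomial.coeff_X_mul, Polynomial.coeff_eq_zero_of_lt_natTrailingDegree (by omega), mul_zero]
    simp only [f, sub_mul, one_mul, Polynomial.coeff_sub, h3, zero_sub, Polynomial.coeff_zero,
      neg_eq_zero] at h
    exact hx0 (Polynomial.trailingCoeff_eq_zero.1 h)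
  have hreg : IsWeaklyRegular R[X] (f :: ws.map C) := by
    rw [H29Slice.isWeaklyRegular_iff_elementwise] at hwsreg ⊢
    intro i hi x hx
    cases i with
    | zero =>
      simp only [List.take_zero, Ideal.ofList_nil, Ideal.mem_bot] at hx ⊢
      exact hnzd x hx
    | succ i =>
      simp only [List.take_succ_cons, ← List.map_take] at hx ⊢
      rw [← hcomap, Ideal.mem_comap] at hx ⊢
      simp only [List.getElem_cons_succ, List.getElem_map, map_mul] at hx
      have hi' : i < (ws.map φ).length := by simpa using hi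
      have := hwsreg i hi' (ψ x) ?_
      · rw [← List.map_take] at this; exact this
      · rw [← List.map_take, List.getElem_map, ← hψC]; exact hx
  let E := MvPolynomial.finSuccEquiv A n
  let l : List (MvPolynomial (Fin (n + 1)) A) := (f :: ws.map C).map E.symm
  have hmem : ∀ (m : List R[X]) (x : MvPolynomial (Fin (n + 1)) A),
      x ∈ Ideal.ofList (m.map E.symm) ↔ E x ∈ Ideal.ofList m := by
    intro m x
    exact mem_ofList_map_symm E m x
  refine ⟨l.length, l.get, ?_⟩
  rw [List.ofFn_get]
  have hlreg : IsWeaklyRegular (MvPolynomial (Fin (n + 1)) A) l := by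
    rw [H29Slice.isWeaklyRegular_iff_elementwise] at hreg ⊢
    have key : ∀ (i : ℕ) (x : MvPolynomial (Fin (n + 1)) A),
        x ∈ Ideal.ofList (l.take i) ↔ E x ∈ Ideal.ofList ((f :: ws.map C).take i) := by
      intro i x
      simp only [l, ← List.map_take]
      exact hmem _ x
    intro i hi x hx
    have hi' : i < (f :: ws.map C).length := by simpa [l] using hi
    rw [key] at hx ⊢
    simp only [l, List.getElem_map, map_mul, AlgEquiv.apply_symm_apply] at hx
    exact hreg i hi' (E x) hx
  -- the quotient
  let g := Ideal.Quotient.mk I c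
  let π : L →+* Localization.Away g := IsLocalization.Away.map L (Localization.Away g) (Ideal.Quotient.mk I) c
  have hπ : ∀ w, π (φ w) = algebraMap _ (Localization.Away g) (Ideal.Quotient.mk I w) := fun w =>
    IsLocalization.map_eq _ w
  have hπker : RingHom.ker π = Ideal.ofList rs :=
    (IsLocalization.ker_map (S := L) (Localization.Away g) (Ideal.Quotient.mk I)
      (Submonoid.map_powers (Ideal.Quotient.mk I) c)).trans (by rw [Ideal.mk_ker]; exact hI)
  let Φ : MvPolynomial (Fin (n + 1)) A →ₐ[A] Localization.Away g :=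
    { π.comp (ψ.toRingHom.comp E.toAlgHom.toRingHom) with
      commutes' := fun a => by
        show π (ψ (E (algebraMap A _ a))) = _
        rw [AlgEquiv.commutes, show algebraMap A R[X] a = C (algebraMap A R a) from rfl, hψC, hπ,
          IsScalarTower.algebraMap_apply A (R ⧸ I) (Localization.Away g)]
        rfl }
  have hΦ : Function.Surjective Φ := by
    have hπs : Function.Surjective π := fun y => by
      obtain ⟨⟨w, ⟨_, k, rfl⟩⟩, hy⟩ := IsLocalization.surj (Submonoid.powers g) y
      obtain ⟨w, rfl⟩ := Ideal.Quotient.mk_surjective w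
      obtain ⟨v, hv⟩ := hu k
      refine ⟨φ w * (↑v⁻¹ : L), ?_⟩
      have hv' : π (v : L) * π (↑v⁻¹ : L) = 1 := by rw [← map_mul, v.mul_inv, map_one]
      have hgk : algebraMap _ (Localization.Away g) (g ^ k) = π (v : L) := by
        rw [hv, ← map_pow φ, hπ, map_pow (Ideal.Quotient.mk I)]
      rw [map_mul, hπ, ← hy, hgk, mul_assoc, hv', mul_one]
    exact hπs.comp (hsurj.comp E.surjective)
  have hΦker : RingHom.ker Φ.toRingHom = Ideal.ofList l := by
    refine Ideal.ext fun x => ?_
    have h1 : Ideal.ofList rs = Ideal.ofList (ws.map φ) := by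
      have := hspan (rs.length)
      simpa [ws, List.take_of_length_le] using this.symm
    rw [RingHom.mem_ker]
    show π (ψ (E x)) = 0 ↔ _
    rw [← RingHom.mem_ker, hπker, h1]
    show E x ∈ (Ideal.ofList (ws.map φ)).comap ψ.toRingHom ↔ _
    rw [hcomap]
    simp only [l]
    exact (hmem _ x).symm
  refine ⟨⟨hlreg, ?_⟩, ⟨(Ideal.quotientKerAlgEquivOfSurjective hΦ).symm.trans
    (Ideal.quotientEquivAlgOfEq A hΦker)⟩⟩
  rw [smul_eq_mul, Ideal.mul_top, ← hΦker]
  exact (RingHom.ker_ne_top Φ.toRingHom).symm

end Groth.Agent.H17.RegPres
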